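import Cfsg.Agent.H802.TE.Defs

/-!
# S5261, part E: (A2) `Z3 ≤ E < Q2`, `p = 2`
-/

set_option autoImplicit false
set_option linter.unusedSectionVars false

namespace Cfsg.Agent.H601.TE

open Cfsg Cfsg.FusionSystem Cfsg.Agent.H756.PU Cfsg.Agent.H802.TE
open Cfsg.Agent.H765.D3 Cfsg.Agent.H765.D3.Sy
open Cfsg.Agent.Hex.Defs (sh cr nm tr)
open Module
open scoped commutatorElement

universe u

/-! ### The extension `K / F` -/

section Field

variable {F K : Type*} [Field F] [Field K] [Algebra F K]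

theorem finrank_three (φ : K ≃ₐ[F] K) [Cub φ] [Finite K] : finrank F K = 3 := by
  have : Module.Finite F K := Module.Finite.of_finite
  have ho : orderOf φ = 3 := by
    have : Fact (Nat.Prime 3) := ⟨Nat.prime_three⟩
    apply orderOf_eq_prime
    · ext t
      exact phi3 φ t
    · intro h
      obtain ⟨t, ht⟩ := Cub.ne (φ := φ)
      exact ht (by rw [h]; rfl)
  have hbot : IntermediateField.fixedField (Subgroup.zpowers φ) = ⊥ := by
    rw [eq_bot_iff]
    intro t ht
    rw [IntermediateField.mem_fixedField_iff] at ht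
    obtain ⟨s, hs⟩ := exists_coe φ (ht φ (Subgroup.mem_zpowers φ))
    exact IntermediateField.mem_bot.2 ⟨s, hs⟩
  have h1 := IntermediateField.finrank_fixedField_eq_card (Subgroup.zpowers φ)
  rw [hbot, IntermediateField.finrank_bot', Nat.card_zpowers, ho] at h1
  exact h1

variable (φ : K ≃ₐ[F] K) [Cub φ]

/-- the trace form over `F` -/
noncomputable def trF : K →ₗ[F] Module.Dual F K :=
  LinearMap.mk₂ F (fun s x => tr φ (s * x))
    (fun a b c => by rw [add_mul, tr_add]) (fun r a b => by rw [smul_mul_assoc, tr_smul, smul_eq_mul])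
    (fun a b c => by rw [mul_add, tr_add]) (fun r a b => by rw [mul_smul_comm, tr_smul, smul_eq_mul])

theorem trF_apply (s x : K) : trF φ s x = tr φ (s * x) := rfl

theorem trF_surjective [Finite K] : Function.Surjective (trF φ) := by
  have : Module.Finite F K := Module.Finite.of_finite
  have hinj : Function.Injective (trF φ) := by
    rw [← LinearMap.ker_eq_bot, eq_bot_iff]
    intro s hs
    rw [LinearMap.mem_ker] at hs
    rw [Submodule.mem_bot]
    apply tr_nondeg φ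
    intro t
    rw [← trF_apply, hs]
    rfl
  exact (LinearMap.injective_iff_surjective_of_finrank_eq_finrank Subspace.dual_finrank_eq.symm).1 hinj

/-- a proper `F`-subspace of `K` lies in some `s^⊥` -/
theorem exists_perp [Finite K] (U : Submodule F K) (hU : U ≠ ⊤) :
    ∃ s : K, s ≠ 0 ∧ ∀ x ∈ U, tr φ (s * x) = 0 := by
  obtain ⟨f, hf, hUf⟩ := Submodule.exists_le_ker_of_lt_top U (lt_top_iff_ne_top.2 hU)
  obtain ⟨s, rfl⟩ := trF_surjective φ f
  refine ⟨s, ?_, fun x hx => ?_⟩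
  · rintro rfl
    exact hf (map_zero _)
  · have := hUf hx
    rwa [LinearMap.mem_ker, trF_apply] at this

end Field

/-! ### Linear algebra over `ZMod 2` -/

section Two

variable {F K : Type*} [Field F] [Field K] [Algebra F K] (φ : K ≃ₐ[F] K) [Cub φ]
variable [Algebra (ZMod 2) F] [Algebra (ZMod 2) K] [IsScalarTower (ZMod 2) F K]

/-- `F l × F l` -/
def rad (l : K) : Submodule (ZMod 2) (K × K) :=
  LinearMap.range ((LinearMap.toSpanSingleton F K l).restrictScalars (ZMod 2) |>.prodMap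
    ((LinearMap.toSpanSingleton F K l).restrictScalars (ZMod 2)))

theorem mem_rad {l : K} {v : K × K} : v ∈ rad (F := F) l ↔ ∃ x y : F, v = (x • l, y • l) := by
  rw [rad, LinearMap.mem_range]
  constructor
  · rintro ⟨w, rfl⟩
    exact ⟨w.1, w.2, rfl⟩
  · rintro ⟨x, y, rfl⟩
    exact ⟨(x, y), rfl⟩

theorem finrank_rad [Finite F] {l : K} (hl : l ≠ 0) :
    finrank (ZMod 2) (rad (F := F) l) = 2 * finrank (ZMod 2) F := by
  rw [rad, LinearMap.finrank_range_of_inj, finrank_prod]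
  · ring
  · rw [LinearMap.coe_prodMap]
    have : Function.Injective (LinearMap.toSpanSingleton F K l) := smul_left_injective F hl
    exact this.prodMap this

/-- `μ (tr (x y))` -/
noncomputable def bF (μ : F →ₗ[ZMod 2] ZMod 2) : LinearMap.BilinForm (ZMod 2) K :=
  LinearMap.mk₂ (ZMod 2) (fun x y => μ (tr φ (x * y)))
    (fun a b c => by rw [add_mul, tr_add, map_add])
    (fun r a b => by
      rw [smul_mul_assoc, ← algebraMap_smul F r, tr_smul, ← smul_eq_mul, algebraMap_smul, map_smul])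
    (fun a b c => by rw [mul_add, tr_add, map_add])
    (fun r a b => by
      rw [mul_smul_comm, ← algebraMap_smul F r, tr_smul, ← smul_eq_mul, algebraMap_smul, map_smul])

theorem bF_apply (μ : F →ₗ[ZMod 2] ZMod 2) (x y : K) : bF φ μ x y = μ (tr φ (x * y)) := rfl

/-- the form `μ (tr (l (v1 × w2 + w1 × v2)))` on `K × K` -/
noncomputable def fF (μ : F →ₗ[ZMod 2] ZMod 2) (l : K) : LinearMap.BilinForm (ZMod 2) (K × K) :=
  LinearMap.mk₂ (ZMod 2) (fun v w => μ (tr φ (l * (cr φ v.1 w.2 + cr φ w.1 v.2))))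
    (fun a b c => by
      rw [← map_add, ← tr_add, ← mul_add, Prod.fst_add, Prod.snd_add, cr_add_left, cr_add_right]
      congr 3; ring)
    (fun r a b => by
      rw [← map_smul, ← algebraMap_smul F r (tr φ _), smul_eq_mul, ← tr_smul, ← mul_smul_comm, Prod.smul_fst,
        Prod.smul_snd, ← algebraMap_smul F r a.1, ← algebraMap_smul F r a.2, cr_smul_left, cr_smul_right, smul_add])
    (fun a b c => by
      rw [← map_add, ← tr_add, ← mul_add, Prod.fst_add, Prod.snd_add, cr_add_left, cr_add_right]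
      congr 3; ring)
    (fun r a b => by
      rw [← map_smul, ← algebraMap_smul F r (tr φ _), smul_eq_mul, ← tr_smul, ← mul_smul_comm, Prod.smul_fst,
        Prod.smul_snd, ← algebraMap_smul F r b.1, ← algebraMap_smul F r b.2, cr_smul_left, cr_smul_right, smul_add])

theorem fF_apply (μ : F →ₗ[ZMod 2] ZMod 2) (l : K) (v w : K × K) :
    fF φ μ l v w = μ (tr φ (l * (cr φ v.1 w.2 + cr φ w.1 v.2))) := rfl

theorem mu_nondeg {μ : F →ₗ[ZMod 2] ZMod 2} (hμ : μ ≠ 0) {t : K} (h : ∀ s : F, μ (tr φ (s • t)) = 0) : tr φ t = 0 := by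
  by_contra ht
  apply hμ
  ext s
  have := h (s * (tr φ t)⁻¹)
  rw [tr_smul, mul_assoc, inv_mul_cancel₀ ht, mul_one] at this
  rw [this]
  rfl

theorem bF_isRefl (μ : F →ₗ[ZMod 2] ZMod 2) : (bF φ μ).IsRefl := fun x y h => by
  rw [bF_apply] at h ⊢
  rw [mul_comm]; exact h

theorem bF_nondeg {μ : F →ₗ[ZMod 2] ZMod 2} (hμ : μ ≠ 0) : (bF φ μ).Nondegenerate := by
  have h1 : ∀ x : K, (∀ y, bF φ μ x y = 0) → x = 0 := by
    intro x hx
    apply tr_nondeg φ
    intro t
    apply mu_nondeg φ hμ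
    intro s
    have := hx (s • t)
    rwa [bF_apply, mul_smul_comm] at this
  exact ⟨h1, fun x hx => h1 x fun y => bF_isRefl φ μ y x (hx y)⟩

theorem fF_isRefl (μ : F →ₗ[ZMod 2] ZMod 2) (l : K) : (fF φ μ l).IsRefl := fun x y h => by
  rw [fF_apply] at h ⊢
  rw [add_comm]; exact h

/-- the radical of `fF` -/
theorem orthogonal_top (h2 : (2 : K) = 0) {μ : F →ₗ[ZMod 2] ZMod 2} (hμ : μ ≠ 0) {l : K} (hl : l ≠ 0) :
    (fF φ μ l).orthogonal ⊤ = rad (F := F) l := by
  ext v
  rw [LinearMap.BilinForm.mem_orthogonal_iff, mem_rad]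
  constructor
  · intro h
    have key : ∀ c : K, (∀ t : K, μ (tr φ (l * cr φ t c)) = 0) → ∃ s : F, c = s • l := by
      intro c hc
      apply cr_eq_zero_two φ h2 hl
      apply tr_nondeg φ
      intro t
      apply mu_nondeg φ hμ
      intro s
      rw [← hc (s • t), mul_comm (cr φ l c), ← smul_mul_assoc, cr_comm φ l c, ← tr_cr, mul_comm]
    obtain ⟨x, hx⟩ := key v.1 fun t => by
      have := h (0, t) trivial
      rw [fF_apply] at this
      simp only [cr_zero_left, zero_add] at this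
      rw [cr_comm]; exact this
    obtain ⟨y, hy⟩ := key v.2 fun t => by
      have := h (t, 0) trivial
      rw [fF_apply] at this
      simp only [cr_zero_right, add_zero] at this
      exact this
    exact ⟨x, y, by rw [← hx, ← hy]⟩
  · rintro ⟨x, y, rfl⟩ w _
    have key : ∀ (s : F) (t : K), tr φ (l * cr φ t (s • l)) = 0 := fun s t => by
      rw [mul_comm, tr_cr, cr_comm, cr_smul_self_two φ h2, mul_zero, tr_zero]
    rw [fF_apply, mul_add, tr_add, cr_comm φ (x • l), key, key, add_zero, map_zero]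

variable [Finite F] [Finite K]

include φ in
theorem finrank_K : finrank (ZMod 2) K = 3 * finrank (ZMod 2) F := by
  have : Module.Finite F K := Module.Finite.of_finite
  rw [← finrank_mul_finrank (ZMod 2) F K, finrank_three φ]
  ring

/-- an isotropic subspace for `fF` -/
theorem iso_bound (h2 : (2 : K) = 0) {μ : F →ₗ[ZMod 2] ZMod 2} (hμ : μ ≠ 0) {l : K} (hl : l ≠ 0)
    {D : Submodule (ZMod 2) (K × K)} (hD : ∀ v ∈ D, ∀ w ∈ D, fF φ μ l v w = 0) :
    finrank (ZMod 2) D ≤ 2 * finrank (ZMod 2) F + finrank (ZMod 2) (D ⊓ rad (F := F) l : Submodule (ZMod 2) (K × K)) := by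
  have : Module.Finite (ZMod 2) K := Module.Finite.of_finite
  have h1 := LinearMap.BilinForm.finrank_add_finrank_orthogonal (fF_isRefl φ μ l) (D ⊔ rad (F := F) l)
  rw [orthogonal_top φ h2 hμ hl, inf_eq_right.2 (le_sup_right (a := D) (b := rad (F := F) l)), finrank_rad hl,
    finrank_prod, finrank_K φ] at h1
  have h3 : D ⊔ rad (F := F) l ≤ (fF φ μ l).orthogonal (D ⊔ rad (F := F) l) := by
    intro v hv w hw
    obtain ⟨v1, hv1, v2, hv2, rfl⟩ := Submodule.mem_sup.1 hv
    obtain ⟨w1, hw1, w2, hw2, rfl⟩ := Submodule.mem_sup.1 hw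
    rw [← orthogonal_top φ h2 hμ hl] at hv2 hw2
    have e1 : fF φ μ l (w1 + w2) v2 = 0 := hv2 _ trivial
    have e2 : fF φ μ l w2 v1 = 0 := fF_isRefl φ μ l _ _ (hw2 v1 trivial)
    show fF φ μ l (w1 + w2) (v1 + v2) = 0
    rw [map_add, e1, add_zero, map_add, LinearMap.add_apply, e2, add_zero, hD _ hw1 _ hv1]
  have h4 := Submodule.finrank_mono h3
  have h5 := Submodule.finrank_sup_add_finrank_inf_eq D (rad (F := F) l)
  rw [finrank_rad hl] at h5
  omega

omit [Cub φ] [Algebra F K] [IsScalarTower (ZMod 2) F K] [Finite K] in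
theorem finrank_rad_le [Algebra F K] [IsScalarTower (ZMod 2) F K] (l : K) :
    finrank (ZMod 2) (rad (F := F) l) ≤ 2 * finrank (ZMod 2) F := by
  by_cases hl : l = 0
  · have : rad (F := F) l = ⊥ := by
      rw [eq_bot_iff]
      intro v hv
      obtain ⟨x, y, rfl⟩ := mem_rad.1 hv
      rw [hl, smul_zero, smul_zero]
      exact Submodule.zero_mem _
    rw [this, finrank_bot]
    exact Nat.zero_le _
  · exact (finrank_rad hl).le

theorem pure_of (h2 : (2 : K) = 0) {v : K × K} (hv : v ≠ 0) (h : cr φ v.1 v.2 = 0) :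
    ∃ (a : K) (r s : F), a ≠ 0 ∧ v.1 = r • a ∧ v.2 = s • a ∧ (r ≠ 0 ∨ s ≠ 0) := by
  by_cases h1 : v.1 = 0
  · refine ⟨v.2, 0, 1, ?_, ?_, ?_, Or.inr one_ne_zero⟩
    · intro h3
      exact hv (Prod.ext h1 h3)
    · rw [h1, zero_smul]
    · rw [one_smul]
  · obtain ⟨s, hs⟩ := cr_eq_zero_two φ h2 h1 h
    exact ⟨v.1, 1, s, h1, (one_smul F v.1).symm, hs, Or.inl one_ne_zero⟩

/-- if all `v1 × v2` and all `v1 × w2 + w1 × v2` vanish on `D` then `D ≤ K ⊗ λ` or `D ≤ F a × F a` -/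
theorem pure_tensor (h2 : (2 : K) = 0) {D : Submodule (ZMod 2) (K × K)} (h0 : ∀ v ∈ D, cr φ v.1 v.2 = 0)
    (h1 : ∀ v ∈ D, ∀ w ∈ D, cr φ v.1 w.2 + cr φ w.1 v.2 = 0)
    (hl : ¬ ∃ l m : F, (l ≠ 0 ∨ m ≠ 0) ∧ ∀ v ∈ D, l • v.1 + m • v.2 = 0) : ∃ a : K, D ≤ rad (F := F) a := by
  push Not at hl
  obtain ⟨v0, hv0, hv0'⟩ := hl 1 0 (Or.inl one_ne_zero)
  rw [one_smul, zero_smul, add_zero] at hv0'
  obtain ⟨a, r, s, ha, hr, hs, hrs⟩ := pure_of φ h2 (v := v0) (fun h => hv0' (by rw [h]; rfl)) (h0 v0 hv0)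
  obtain ⟨w, hw, hw'⟩ := hl s r hrs.symm
  have key : ∀ (x y : F), (x • a, y • a) ∈ D → ∀ v ∈ D, ∃ t : F, y • v.1 + x • v.2 = t • a := by
    intro x y hxy v hv
    have := h1 _ hxy v hv
    simp only at this
    rw [cr_smul_left, cr_smul_right, ← cr_smul_right, ← cr_smul_left, cr_comm φ (y • v.1) a, ← cr_add_right] at this
    obtain ⟨t, ht⟩ := cr_eq_zero_two φ h2 ha this
    exact ⟨t, by rw [add_comm]; exact ht⟩
  have hv0'' : (r • a, s • a) ∈ D := by
    rw [← hr, ← hs]; exact hv0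
  obtain ⟨t, ht⟩ := key r s hv0'' w hw
  have ht0 : t ≠ 0 := fun h => hw' (by rw [ht, h, zero_smul])
  obtain ⟨a1, x, y, ha1, hx, hy, -⟩ := pure_of φ h2 (v := w) (fun h => hw' (by rw [h]; simp)) (h0 w hw)
  obtain ⟨u, hu⟩ : ∃ u : F, a1 = u • a := by
    rw [hx, hy, smul_smul, smul_smul, ← add_smul] at ht
    have hne : s * x + r * y ≠ 0 := by
      intro h
      rw [h, zero_smul] at ht
      exact smul_ne_zero ht0 ha ht.symm
    exact ⟨(s * x + r * y)⁻¹ * t, by rw [mul_smul, ← ht, smul_smul, inv_mul_cancel₀ hne, one_smul]⟩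
  have hw1 : w.1 = (x * u) • a := by rw [hx, hu, smul_smul]
  have hw2 : w.2 = (y * u) • a := by rw [hy, hu, smul_smul]
  have hwD : ((x * u) • a, (y * u) • a) ∈ D := by rw [← hw1, ← hw2]; exact hw
  have hdet : s * (x * u) + r * (y * u) = t := by
    have : (s * (x * u) + r * (y * u)) • a = t • a := by
      rw [← ht, hw1, hw2, smul_smul, smul_smul, add_smul]
    exact smul_left_injective F ha this
  refine ⟨a, fun v hv => ?_⟩
  obtain ⟨t1, ht1⟩ := key _ _ hv0'' v hv
  obtain ⟨t2, ht2⟩ := key _ _ hwD v hv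
  rw [mem_rad]
  refine ⟨t⁻¹ * ((x * u) * t1 + r * t2), t⁻¹ * ((y * u) * t1 + s * t2), Prod.ext ?_ ?_⟩
  · have e : t • v.1 = ((x * u) * t1 + r * t2) • a := by
      rw [← hdet]
      simp only [Algebra.smul_def, map_add, map_mul] at ht1 ht2 ⊢
      linear_combination algebraMap F K x * algebraMap F K u * ht1 + algebraMap F K r * ht2 -
        algebraMap F K x * algebraMap F K u * algebraMap F K r * v.2 * h2
    show v.1 = (t⁻¹ * ((x * u) * t1 + r * t2)) • a
    rw [mul_smul, ← e, smul_smul, inv_mul_cancel₀ ht0, one_smul]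
  · have e : t • v.2 = ((y * u) * t1 + s * t2) • a := by
      rw [← hdet]
      simp only [Algebra.smul_def, map_add, map_mul] at ht1 ht2 ⊢
      linear_combination algebraMap F K y * algebraMap F K u * ht1 + algebraMap F K s * ht2 -
        algebraMap F K y * algebraMap F K u * algebraMap F K s * v.1 * h2
    show v.2 = (t⁻¹ * ((y * u) * t1 + s * t2)) • a
    rw [mul_smul, ← e, smul_smul, inv_mul_cancel₀ ht0, one_smul]

/-- three independent directions -/
theorem three_dirs {L : Submodule (ZMod 2) K} (hL : Submodule.span F (L : Set K) = ⊤)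
    {D : Submodule (ZMod 2) (K × K)}
    (h : ∀ l ∈ L, l ≠ 0 → finrank (ZMod 2) D ≤ 2 * finrank (ZMod 2) F +
      finrank (ZMod 2) (D ⊓ rad (F := F) l : Submodule (ZMod 2) (K × K))) (φ : K ≃ₐ[F] K) [Cub φ] :
    finrank (ZMod 2) D ≤ 3 * finrank (ZMod 2) F := by
  classical
  have : Module.Finite F K := Module.Finite.of_finite
  have : Module.Finite (ZMod 2) K := Module.Finite.of_finite
  let b := Module.Basis.ofSpan hL.ge
  have hb : ∀ i, b i ∈ L := fun i => Module.Basis.ofSpan_subset hL.ge ⟨i, rfl⟩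
  have hb0 : ∀ i, b i ≠ 0 := fun i => b.ne_zero i
  let _ := Fintype.ofFinite ((linearIndepOn_empty F (id : K → K)).extend (Set.empty_subset (L : Set K)))
  have hcard : Fintype.card ((linearIndepOn_empty F (id : K → K)).extend (Set.empty_subset (L : Set K))) = 3 := by
    rw [← finrank_eq_card_basis b, finrank_three φ]
  let f : (∀ i, (D ⊓ rad (F := F) (b i) : Submodule (ZMod 2) (K × K))) →ₗ[ZMod 2] D :=
    ∑ i, (Submodule.inclusion (inf_le_left)).comp (LinearMap.proj i)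
  have hfc : ∀ v, ((f v : D) : K × K) = ∑ i, ((v i : (D ⊓ rad (F := F) (b i) : Submodule (ZMod 2) (K × K))) : K × K) := by
    intro v
    rw [LinearMap.sum_apply, AddSubmonoidClass.coe_finsetSum]
    rfl
  have hf : Function.Injective f := by
    rw [← LinearMap.ker_eq_bot, eq_bot_iff]
    intro v hv
    rw [LinearMap.mem_ker] at hv
    have h4 : ∑ i, ((v i : (D ⊓ rad (F := F) (b i) : Submodule (ZMod 2) (K × K))) : K × K) = 0 := by
      rw [← hfc, hv]; rfl
    have h5 : ∀ i, ∃ x y : F, ((v i : (D ⊓ rad (F := F) (b i) : Submodule (ZMod 2) (K × K))) : K × K) =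
        (x • b i, y • b i) := fun i => mem_rad.1 (v i).2.2
    choose x y hxy using h5
    have h6 : ∀ i, x i = 0 := by
      apply Fintype.linearIndependent_iff.1 b.linearIndependent
      have := congrArg Prod.fst h4
      rw [Prod.fst_sum] at this
      exact Eq.trans (Finset.sum_congr rfl fun i _ => by rw [hxy]) this
    have h7 : ∀ i, y i = 0 := by
      apply Fintype.linearIndependent_iff.1 b.linearIndependent
      have := congrArg Prod.snd h4
      rw [Prod.snd_sum] at this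
      exact Eq.trans (Finset.sum_congr rfl fun i _ => by rw [hxy]) this
    rw [Submodule.mem_bot]
    funext i
    apply Subtype.ext
    rw [hxy, h6, h7, zero_smul]
    rfl
  have h1 := LinearMap.finrank_le_finrank_of_injective hf
  rw [finrank_pi_fintype] at h1
  have h3 : ∑ _i : ((linearIndepOn_empty F (id : K → K)).extend (Set.empty_subset (L : Set K))),
      (finrank (ZMod 2) D - 2 * finrank (ZMod 2) F) ≤ finrank (ZMod 2) D :=
    (Finset.sum_le_sum fun i _ => by have := h (b i) (hb i) (hb0 i); omega).trans h1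
  rw [Finset.sum_const, Finset.card_univ, hcard, smul_eq_mul] at h3
  omega

/-- `s^⊥` over `ZMod 2` -/
noncomputable def perp (s : K) : Submodule (ZMod 2) K := (LinearMap.ker (trF φ s)).restrictScalars (ZMod 2)

theorem mem_perp {s x : K} : x ∈ perp φ s ↔ tr φ (s * x) = 0 := Iff.rfl

theorem finrank_perp {s : K} (hs : s ≠ 0) : finrank (ZMod 2) (perp φ s) = 2 * finrank (ZMod 2) F := by
  have : Module.Finite F K := Module.Finite.of_finite
  have h0 : trF φ s ≠ 0 := by
    intro h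
    apply hs
    apply tr_nondeg φ
    intro t
    rw [← trF_apply, h]
    rfl
  have h1 := LinearMap.finrank_range_add_finrank_ker (trF φ s)
  rw [finrank_three φ, LinearMap.range_eq_top.2 (LinearMap.surjective h0), finrank_top, finrank_self] at h1
  have h2 : finrank (ZMod 2) (perp φ s) = finrank (ZMod 2) (LinearMap.ker (trF φ s)) := rfl
  rw [h2, ← finrank_mul_finrank (ZMod 2) F (LinearMap.ker (trF φ s))]
  have h3 : finrank F (LinearMap.ker (trF φ s)) = 2 := by omega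
  rw [h3, mul_comm]

theorem core (h2 : (2 : K) = 0) {D : Submodule (ZMod 2) (K × K)} {B : Submodule (ZMod 2) K} (hD : D ≠ ⊤)
    (hn : 3 * finrank (ZMod 2) F + finrank (ZMod 2) B ≤ finrank (ZMod 2) D)
    (h0 : ∀ v ∈ D, cr φ v.1 v.2 ∈ B) (h1 : ∀ v ∈ D, ∀ w ∈ D, cr φ v.1 w.2 + cr φ w.1 v.2 ∈ B)
    (hl : ¬ ∃ l m : F, (l ≠ 0 ∨ m ≠ 0) ∧ ∀ v ∈ D, l • v.1 + m • v.2 = 0) :
    ∃ s : K, s ≠ 0 ∧ ∀ v : K × K, v ∈ D ↔ tr φ (s * v.1) = 0 ∧ tr φ (s * v.2) = 0 := by
  have : Module.Finite F K := Module.Finite.of_finite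
  have : Module.Finite (ZMod 2) K := Module.Finite.of_finite
  have : Module.Finite (ZMod 2) F := Module.Finite.of_finite
  have hn0 : 0 < finrank (ZMod 2) F := finrank_pos
  -- `B ≠ 0`
  have hB : 0 < finrank (ZMod 2) B := by
    rw [Nat.pos_iff_ne_zero]
    intro h3
    have h4 : B = ⊥ := Submodule.finrank_eq_zero.1 h3
    obtain ⟨a, ha⟩ := pure_tensor φ h2 (fun v hv => by simpa [h4] using h0 v hv)
      (fun v hv w hw => by simpa [h4] using h1 v hv w hw) hl
    have h5 := (Submodule.finrank_mono ha).trans (finrank_rad_le a)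
    omega
  -- a functional
  obtain ⟨μ, hμ, -⟩ := Submodule.exists_le_ker_of_lt_top (⊥ : Submodule (ZMod 2) F) bot_lt_top
  set L := (bF φ μ).orthogonal B with hLdef
  have hLr : finrank (ZMod 2) L = 3 * finrank (ZMod 2) F - finrank (ZMod 2) B := by
    rw [hLdef, LinearMap.BilinForm.finrank_orthogonal (bF_nondeg φ hμ), finrank_K φ]
  have hDtop : finrank (ZMod 2) D < 6 * finrank (ZMod 2) F := by
    have := Submodule.finrank_lt hD
    rw [finrank_prod, finrank_K φ] at this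
    omega
  have hiso : ∀ l ∈ L, l ≠ 0 → finrank (ZMod 2) D ≤ 2 * finrank (ZMod 2) F +
      finrank (ZMod 2) (D ⊓ rad (F := F) l : Submodule (ZMod 2) (K × K)) := by
    intro l hl hl0
    apply iso_bound φ h2 hμ hl0
    intro v hv w hw
    have := hl _ (h1 v hv w hw)
    rw [fF_apply]
    change bF φ μ _ l = 0 at this
    rw [bF_apply, mul_comm] at this
    exact this
  have hspan : Submodule.span F (L : Set K) ≠ ⊤ := by
    intro h
    have := three_dirs h hiso φ
    omega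
  obtain ⟨s, hs, hsL⟩ := exists_perp φ _ hspan
  have hLs : L ≤ perp φ s := fun x hx => hsL x (Submodule.subset_span hx)
  have hradL : ∀ l : K, finrank (ZMod 2) (D ⊓ rad (F := F) l : Submodule (ZMod 2) (K × K)) ≤
      2 * finrank (ZMod 2) F := fun l => (Submodule.finrank_mono inf_le_right).trans (finrank_rad_le l)
  obtain ⟨l0, hl0, hl00⟩ : ∃ l ∈ L, l ≠ 0 := by
    apply Submodule.exists_mem_ne_zero_of_ne_bot
    intro h
    rw [h, finrank_bot] at hLr
    omega
  have hd1 := hiso l0 hl0 hl00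
  have hd2 := hradL l0
  have hLp := Submodule.finrank_mono hLs
  rw [finrank_perp φ hs] at hLp
  have hLeq : L = perp φ s := by
    apply Submodule.eq_of_le_of_finrank_eq hLs
    rw [finrank_perp φ hs]
    omega
  have hdim : finrank (ZMod 2) D = 4 * finrank (ZMod 2) F := by omega
  have hrad : ∀ l ∈ L, rad (F := F) l ≤ D := by
    intro l hl
    by_cases hl0 : l = 0
    · intro v hv
      obtain ⟨x, y, rfl⟩ := mem_rad.1 hv
      rw [hl0, smul_zero, smul_zero]
      exact D.zero_mem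
    · have h3 := hiso l hl hl0
      have h4 : (D ⊓ rad (F := F) l : Submodule (ZMod 2) (K × K)) = rad (F := F) l := by
        apply Submodule.eq_of_le_of_finrank_eq inf_le_right
        rw [finrank_rad hl0]
        exact le_antisymm (hradL l) (by omega)
      rw [← h4]
      exact inf_le_left
  have hsub : (perp φ s).prod (perp φ s) ≤ D := by
    intro v hv
    have e1 : (v.1, (0 : K)) ∈ D := hrad v.1 (by rw [hLeq]; exact hv.1) (mem_rad.2 ⟨1, 0, by simp⟩)
    have e2 : ((0 : K), v.2) ∈ D := hrad v.2 (by rw [hLeq]; exact hv.2) (mem_rad.2 ⟨0, 1, by simp⟩)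
    have := D.add_mem e1 e2
    simpa using this
  have heq : (perp φ s).prod (perp φ s) = D := by
    apply Submodule.eq_of_le_of_finrank_eq hsub
    have : finrank (ZMod 2) ((perp φ s).prod (perp φ s)) = finrank (ZMod 2) (perp φ s × perp φ s) := by
      have h6 : ((perp φ s).subtype.prodMap (perp φ s).subtype).range = (perp φ s).prod (perp φ s) := by
        rw [LinearMap.range_prodMap, Submodule.range_subtype]
      rw [← h6, LinearMap.finrank_range_of_inj]
      rw [LinearMap.coe_prodMap]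
      exact (Subtype.val_injective).prodMap (Subtype.val_injective)
    rw [this, finrank_prod, finrank_perp φ hs, hdim]
    ring
  refine ⟨s, hs, fun v => ?_⟩
  rw [← heq]
  exact Iff.rfl

end Two

/-! ### Groups -/

section Grp

theorem relIndex_card {G A : Type*} [Group G] [Group A] [Finite A] {f : G →* A} (hf : Function.Surjective f) {H : Subgroup G}
    (h : f.ker ≤ H) : H.index * Nat.card (H.map f) = Nat.card A := by
  rw [← Subgroup.index_map_eq H hf h]
  exact Subgroup.index_mul_card _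

end Grp

section Main

variable {F K : Type u} [Field F] [Field K] [Algebra F K] {φ : K ≃ₐ[F] K} [Cub φ]

/-- `Q2 → K × K` -/
def h2 (φ : K ≃ₐ[F] K) [Cub φ] : Q2 φ →* Multiplicative (K × K) where
  toFun x := Multiplicative.ofAdd ((x : Sy φ).x1, (x : Sy φ).x5)
  map_one' := rfl
  map_mul' x y := by
    rw [← ofAdd_add]
    congr 1
    refine Prod.ext rfl ?_
    show ((x : Sy φ) * (y : Sy φ)).x5 = _
    rw [mul_x5, y.2, zero_smul, add_zero]
    rfl

theorem h2_surjective : Function.Surjective (h2 φ) := fun v =>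
  ⟨⟨⟨v.toAdd.1, 0, v.toAdd.2, 0, 0, 0⟩, rfl⟩, rfl⟩

/-- `Z3 → K` -/
def h3 (φ : K ≃ₐ[F] K) [Cub φ] : Z3 φ →* Multiplicative K where
  toFun x := Multiplicative.ofAdd (x : Sy φ).x3
  map_one' := rfl
  map_mul' x y := by
    rw [← ofAdd_add]
    congr 1
    show ((x : Sy φ) * (y : Sy φ)).x3 = _
    rw [mul_x3, x.2.1, y.2.2.1, zero_smul, add_zero, cr_zero_left, add_zero]

theorem h3_surjective : Function.Surjective (h3 φ) := fun v =>
  ⟨⟨⟨0, 0, 0, v.toAdd, 0, 0⟩, rfl, rfl, rfl⟩, rfl⟩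

theorem comm_x3_Q2 {x y : Sy φ} (hx : x ∈ Q2 φ) (hy : y ∈ Q2 φ) :
    (⁅x, y⁆).x3 = cr φ x.x1 y.x5 - cr φ y.x1 x.x5 := by
  have := congrArg Sy.x3 (comm_mul x y)
  rw [mul_x3, mul_x3, mul_x3, comm_x1, mul_x6, hx, hy] at this
  simp only [cr_zero_left, zero_smul, add_zero] at this
  linear_combination -this

theorem comm_Q2_mem {x y : Sy φ} (hx : x ∈ Q2 φ) (hy : y ∈ Q2 φ) : ⁅x, y⁆ ∈ Z3 φ :=
  ⟨comm_x1 x y, comm_x6 x y, by rw [comm_x5, hx, hy]; simp⟩

/-- `Z3 ≤ E ≤ Q2`, not in a line: `Z2 ≤ Φ(E)` -/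
theorem z2_le {E : Subgroup (Sy φ)} {P : Subgroup (Sy φ)} (h3 : Z3 φ ≤ E) (hQ : E ≤ Q2 φ) (hc : Com E E P)
    (hl : ¬ Line E) : Z2 φ ≤ P := by
  let W : Submodule F (F × F) := Submodule.span F {v | ∃ x ∈ E, ∃ b : K, v = (tr φ (x.x1 * b), -tr φ (b * x.x5))}
  have hadd : ∀ r s r' s' : F, (⟨0, 0, 0, 0, r, s⟩ : Sy φ) * ⟨0, 0, 0, 0, r', s'⟩ = ⟨0, 0, 0, 0, r + r', s + s'⟩ := by
    intro r s r' s'
    ext
    · simp [mul_x1]
    · simp [mul_x6]
    · simp [mul_x5]
    · simp [mul_x3, cr_zero_left, sh_zero]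
    · simp [mul_x2, tr_zero, sh_zero, nm_zero]
    · simp [mul_x4, tr_zero, sh_zero, nm_zero]
  have hW : ∀ v ∈ W, ∀ t : F, (⟨0, 0, 0, 0, (t • v).1, (t • v).2⟩ : Sy φ) ∈ P := by
    intro v hv
    refine Submodule.span_induction ?_ ?_ ?_ ?_ hv
    · rintro _ ⟨x, hx, b, rfl⟩ t
      have h4 : ⁅x, u3 φ (t • b)⁆ ∈ P := hc x hx _ (h3 (u3_mem _))
      have h5 : ⁅x, u3 φ (t • b)⁆ = ⟨0, 0, 0, 0, (t • (tr φ (x.x1 * b), -tr φ (b * x.x5))).1,
          (t • (tr φ (x.x1 * b), -tr φ (b * x.x5))).2⟩ := by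
        have h6 := comm_mem_Z2 (x := x) (u3_mem (φ := φ) (t • b))
        ext
        · exact h6.1
        · exact h6.2.1
        · exact h6.2.2.1
        · exact h6.2.2.2
        · rw [comm_x2' (u3_mem _)]
          simp [u3, tr_smul]
        · rw [comm_x4' (u3_mem _), hQ hx]
          simp [u3, tr_smul]
      rw [← h5]
      exact h4
    · intro t
      rw [smul_zero]
      exact P.one_mem
    · intro a b _ _ ha hb t
      have := P.mul_mem (ha t) (hb t)
      rw [hadd] at this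
      rw [smul_add]
      exact this
    · intro r a _ ha t
      rw [smul_smul]
      exact ha _
  have htop : W = ⊤ := by
    by_contra hne
    obtain ⟨f, hf, hWf⟩ := Submodule.exists_le_ker_of_lt_top W (lt_top_iff_ne_top.2 hne)
    have hf' : ∀ r s : F, f (r, s) = f (1, 0) * r + f (0, 1) * s := by
      intro r s
      have : (r, s) = r • ((1 : F), (0 : F)) + s • ((0 : F), (1 : F)) := by simp
      rw [this, map_add, map_smul, map_smul, smul_eq_mul, smul_eq_mul]
      ring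
    apply hl
    refine ⟨f (1, 0), -f (0, 1), ?_, fun x hx => ?_⟩
    · by_contra hcon
      push Not at hcon
      apply hf
      ext
      · simpa using hcon.1
      · simpa using hcon.2
    · apply tr_nondeg φ
      intro t
      have h6 : (tr φ (x.x1 * t), -tr φ (t * x.x5)) ∈ W := Submodule.subset_span ⟨x, hx, t, rfl⟩
      have h7 := hWf h6
      rw [LinearMap.mem_ker, hf'] at h7
      rw [add_mul, tr_add, smul_mul_assoc, smul_mul_assoc, tr_smul, tr_smul, mul_comm x.x5 t]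
      linear_combination h7
  intro x hx
  have := hW (x.x2, x.x4) (by rw [htop]; trivial) 1
  rw [one_smul] at this
  have h8 : x = ⟨0, 0, 0, 0, x.x2, x.x4⟩ := by
    ext
    · exact hx.1
    · exact hx.2.1
    · exact hx.2.2.1
    · exact hx.2.2.2
    · rfl
    · rfl
  rw [h8]
  exact this

end Main

/-- `E / Z3` as a subspace of `K × K` -/
noncomputable def DD {F K : Type u} [Field F] [Field K] [Algebra F K] {φ : K ≃ₐ[F] K} [Cub φ] [Algebra (ZMod 2) K]
    (E : Subgroup (Sy φ)) (hQ : E ≤ Q2 φ) : Submodule (ZMod 2) (K × K) where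
  carrier := {v | ∃ x ∈ E, x.x1 = v.1 ∧ x.x5 = v.2}
  zero_mem' := ⟨1, E.one_mem, rfl, rfl⟩
  add_mem' := by
    rintro v w ⟨x, hx, hx1, hx5⟩ ⟨y, hy, hy1, hy5⟩
    refine ⟨x * y, E.mul_mem hx hy, ?_, ?_⟩
    · rw [mul_x1, hx1, hy1]; rfl
    · rw [mul_x5, hx5, hy5, hQ hy, zero_smul, add_zero]; rfl
  smul_mem' := by
    rintro c v ⟨x, hx, hx1, hx5⟩
    obtain rfl | rfl : c = 0 ∨ c = 1 := by
      revert c; decide
    · exact ⟨1, E.one_mem, by rw [zero_smul]; rfl, by rw [zero_smul]; rfl⟩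
    · exact ⟨x, hx, by rw [one_smul, hx1], by rw [one_smul, hx5]⟩

/-- the `x3`-coordinates of `P ⊓ Z3` -/
noncomputable def BB {F K : Type u} [Field F] [Field K] [Algebra F K] {φ : K ≃ₐ[F] K} [Cub φ] [Algebra (ZMod 2) K]
    (P : Subgroup (Sy φ)) : Submodule (ZMod 2) K where
  carrier := {b | ∃ x ∈ P, x ∈ Z3 φ ∧ x.x3 = b}
  zero_mem' := ⟨1, P.one_mem, (Z3 φ).one_mem, rfl⟩
  add_mem' := by
    rintro v w ⟨x, hx, hx1, hx5⟩ ⟨y, hy, hy1, hy5⟩
    refine ⟨x * y, P.mul_mem hx hy, (Z3 φ).mul_mem hx1 hy1, ?_⟩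
    rw [mul_x3, hx1.1, hy1.2.1, zero_smul, add_zero, cr_zero_left, add_zero, hx5, hy5]
  smul_mem' := by
    rintro c v ⟨x, hx, hx1, hx5⟩
    obtain rfl | rfl : c = 0 ∨ c = 1 := by
      revert c; decide
    · exact ⟨1, P.one_mem, (Z3 φ).one_mem, by rw [zero_smul]; rfl⟩
    · exact ⟨x, hx, hx1, by rw [one_smul, hx5]⟩

/-- **(A2)** -/
theorem stA2 (hphi : StPhi.{u}) (hp2 : StP2.{u}) : StA2.{u} := by
  intro F K _ _ _ _ _ φ _ _ E Γ h hZ3 hQ hne
  by_cases hl : Line E
  · exact Or.inl hl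
  right
  have hK2 : (2 : K) = 0 := CharTwo.two_eq_zero
  have : CharP F 2 := (algebraMap F K).charP (algebraMap F K).injective 2
  let _ : Algebra (ZMod 2) F := ZMod.algebra F 2
  let _ : Algebra (ZMod 2) K := ZMod.algebra K 2
  have : IsScalarTower (ZMod 2) F K := IsScalarTower.of_algebraMap_eq' (Subsingleton.elim _ _)
  have : Module.Finite (ZMod 2) K := Module.Finite.of_finite
  have hEp : IsPGroup 2 E := (h.pgr.of_injective (Subgroup.inclusion h.E_le) (Subgroup.inclusion_injective _))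
  obtain ⟨hP1, hP2, hP3, -, -, -⟩ := hphi E 2 Nat.prime_two inferInstance hEp
  have hZ2 : Z2 φ ≤ Phi E := z2_le hZ3 hQ hP2 hl
  -- the inequality
  have hnorm : Q2 φ ≤ normalizerIn ⊤ E := by
    have key : ∀ a ∈ Q2 φ, ∀ x ∈ E, a * x * a⁻¹ ∈ E := by
      intro a ha x hx
      have h4 := E.mul_mem (hZ3 (comm_Q2_mem ha (hQ hx))) hx
      rwa [show ⁅a, x⁆ * x = a * x * a⁻¹ by rw [commutatorElement_def]; group] at h4
    intro a ha
    refine Subgroup.mem_inf.2 ⟨trivial, Subgroup.mem_normalizer_iff.2 fun x => ⟨key a ha x, fun hx => ?_⟩⟩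
    have := key a⁻¹ (inv_mem ha) _ hx
    rwa [show a⁻¹ * (a * x * a⁻¹) * a⁻¹⁻¹ = x by group] at this
  have hnle : ¬ Q2 φ ≤ E := fun h4 => hne (le_antisymm hQ h4)
  have hcom : Com (Q2 φ) E (Z3 φ) := fun a ha x hx => comm_Q2_mem ha (hQ hx)
  have hineq := hp2 h (Q2 φ) (Q2 φ) (Z3 φ) (Z3 φ) (Phi E ⊓ Z3 φ) (Phi E ⊓ Z3 φ) hnorm hnorm hnle hZ3 hZ3 hcom hcom
    inf_le_left inf_le_left
  rw [← sq] at hineq
  have hineq' := (Nat.pow_le_pow_iff_left two_ne_zero).1 hineq
  have i1 : E.relIndex (Q2 φ) * Nat.card (DD E hQ) = Nat.card (K × K) := by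
    have h5 := relIndex_card (h2_surjective (φ := φ)) (H := E.subgroupOf (Q2 φ)) (by
      intro x hx
      rw [MonoidHom.mem_ker] at hx
      have hx' : ((x : Sy φ).x1, (x : Sy φ).x5) = (0 : K × K) := hx
      rw [Subgroup.mem_subgroupOf]
      exact hZ3 ⟨congrArg Prod.fst hx', x.2, congrArg Prod.snd hx'⟩)
    rw [show Nat.card (Multiplicative (K × K)) = Nat.card (K × K) from rfl] at h5
    rw [← h5]
    congr 1
    refine Nat.card_congr (Equiv.subtypeEquiv (Multiplicative.ofAdd) fun v => ?_)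
    constructor
    · rintro ⟨x, hx, hx1, hx5⟩
      exact ⟨⟨x, hQ hx⟩, hx, Prod.ext hx1 hx5⟩
    · rintro ⟨x, hx, hx1⟩
      exact ⟨x, hx, congrArg Prod.fst hx1, congrArg Prod.snd hx1⟩
  have i2 : (Phi E ⊓ Z3 φ).relIndex (Z3 φ) * Nat.card (BB (Phi E)) = Nat.card K := by
    have h5 := relIndex_card (h3_surjective (φ := φ)) (H := (Phi E ⊓ Z3 φ).subgroupOf (Z3 φ)) (by
      intro x hx
      rw [MonoidHom.mem_ker] at hx
      have hx' : (x : Sy φ).x3 = 0 := hx
      rw [Subgroup.mem_subgroupOf]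
      exact ⟨hZ2 ⟨x.2.1, x.2.2.1, x.2.2.2, hx'⟩, x.2⟩)
    rw [show Nat.card (Multiplicative K) = Nat.card K from rfl] at h5
    rw [← h5]
    congr 1
    refine Nat.card_congr (Equiv.subtypeEquiv (Multiplicative.ofAdd) fun v => ?_)
    constructor
    · rintro ⟨x, hx, hx1, hx5⟩
      exact ⟨⟨x, hx1⟩, ⟨hx, hx1⟩, hx5⟩
    · rintro ⟨x, hx, hx1⟩
      exact ⟨x, hx.1, x.2, hx1⟩
  have hdim : 3 * finrank (ZMod 2) F + finrank (ZMod 2) (BB (Phi E)) ≤ finrank (ZMod 2) (DD E hQ) := by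
    rw [Module.natCard_eq_pow_finrank (K := ZMod 2) (V := DD E hQ),
      Module.natCard_eq_pow_finrank (K := ZMod 2) (V := K × K), finrank_prod, finrank_K φ, Nat.card_zmod] at i1
    rw [Module.natCard_eq_pow_finrank (K := ZMod 2) (V := BB (Phi E)),
      Module.natCard_eq_pow_finrank (K := ZMod 2) (V := K), finrank_K φ, Nat.card_zmod] at i2
    have h6 : 2 ^ (3 * finrank (ZMod 2) F + 3 * finrank (ZMod 2) F + finrank (ZMod 2) (BB (Phi E))) ≤
        2 ^ (3 * finrank (ZMod 2) F + finrank (ZMod 2) (DD E hQ)) := by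
      rw [pow_add, ← i1, pow_add _ (3 * finrank (ZMod 2) F), ← i2]
      calc E.relIndex (Q2 φ) * 2 ^ finrank (ZMod 2) (DD E hQ) * 2 ^ finrank (ZMod 2) (BB (Phi E))
          ≤ (Phi E ⊓ Z3 φ).relIndex (Z3 φ) * 2 ^ finrank (ZMod 2) (DD E hQ) * 2 ^ finrank (ZMod 2) (BB (Phi E)) := by
            gcongr
        _ = _ := by ring
    have h7 := (Nat.pow_le_pow_iff_right (by norm_num)).1 h6
    omega
  have hback : ∀ x : Sy φ, x.x6 = 0 → (x.x1, x.x5) ∈ DD E hQ → x ∈ E := by
    rintro x hx6 ⟨y, hy, hy1, hy5⟩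
    simp only at hy1 hy5
    have hy6 : y.x6 = 0 := hQ hy
    have : y⁻¹ * x ∈ Z3 φ := by
      refine ⟨?_, ?_, ?_⟩
      · rw [mul_x1, inv_x1, hy1, neg_add_cancel]
      · rw [mul_x6, inv_x6, hx6, hy6, neg_zero, add_zero]
      · rw [mul_x5, inv_x5, hx6, hy6, hy5, zero_smul, zero_smul, add_zero, add_zero, neg_add_cancel]
    have h8 := E.mul_mem hy (hZ3 this)
    rwa [mul_inv_cancel_left] at h8
  obtain ⟨s, hs, hs'⟩ := core φ hK2 (D := DD E hQ) (B := BB (Phi E)) (by
      intro htop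
      apply hnle
      intro x hx
      exact hback x hx (by rw [htop]; trivial)) hdim (by
      rintro v ⟨x, hx, hx1, hx5⟩
      refine ⟨x ^ 2, hP3 x hx, ?_, ?_⟩
      · rw [sq]
        refine ⟨?_, ?_, ?_⟩
        · rw [mul_x1]; exact CharTwo.add_self_eq_zero _
        · rw [mul_x6, hQ hx, add_zero]
        · rw [mul_x5, hQ hx, zero_smul, add_zero]; exact CharTwo.add_self_eq_zero _
      · rw [sq, mul_x3, hQ hx, zero_smul, add_zero, CharTwo.add_self_eq_zero, zero_add, hx1, hx5]) (by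
      rintro v ⟨x, hx, hx1, hx5⟩ w ⟨y, hy, hy1, hy5⟩
      refine ⟨⁅x, y⁆, hP2 x hx y hy, comm_Q2_mem (hQ hx) (hQ hy), ?_⟩
      rw [comm_x3_Q2 (hQ hx) (hQ hy), hx1, hx5, hy1, hy5, CharTwo.sub_eq_add]) (by
      rintro ⟨l, m, hlm, hv⟩
      exact hl ⟨l, m, hlm, fun x hx => hv (x.x1, x.x5) ⟨x, hx, rfl, rfl⟩⟩)
  refine ⟨s, hs, ?_⟩
  ext x
  rw [mem_Cs]
  constructor
  · intro hx
    exact ⟨hQ hx, (hs' (x.x1, x.x5)).1 ⟨x, hx, rfl, rfl⟩⟩
  · rintro ⟨hx6, hx⟩
    exact hback x hx6 ((hs' (x.x1, x.x5)).2 hx)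

end Cfsg.Agent.H601.TE
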